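import Cfsg.Agent.Helper28.CosetCox
set_option autoImplicit false
set_option maxRecDepth 1000000
namespace Cfsg.Agent.Helper96.L34.CertX
open Cfsg.Agent.Helper28
def leaf0 : Nat := 0x400003
def leaf1 : Nat := 0x8100002000008000001000004100000000004000000000000000000
def leaf2 : Nat := 0x100001300000f00000000001200000b00000700000e00000a000006
def leaf3 : Nat := 0x8100000040000000010000000000000000
def leaf4 : Nat := 0x2819
def leaf5 : Nat := 0x3302
def factsTr : Tr := (.leaf leaf0)
def defsTr : Tr := (.leaf leaf1)
def finTr : Tr := (.leaf leaf2)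
def parTr : Tr := (.leaf leaf3)
def letTr : Tr := (.node (.leaf leaf4) (.leaf leaf5))
def wordsTr : WTr := (.node (.node (.node (.leaf []) (.leaf [])) (.leaf [0, 1])) (.node (.leaf [0, 0, 0, 0, 0]) (.leaf [1, 0])))
noncomputable def tabs : Tabs where
  M := 5
  nsub := 0
  nwords := 5
  word := wordsTr.get
  defn := fun d => defsTr.look 10 1023 48 281474976710655 d
  fact := fun k => factsTr.look 10 1023 48 281474976710655 k
noncomputable def ptabs : PTabs where
  n := 5
  L := 2
  perm := fun l i => Nat.land (Nat.shiftRight (letTr.get l) (Nat.mul 3 i)) 7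
  fin := fun i l => finTr.look 10 1023 24 16777215 (Nat.add (Nat.mul i 2) l)
  par := fun i => parTr.look 10 1023 32 4294967295 i
theorem perm_eq : ∀ l i, ptabs.perm l i = Nat.land (Nat.shiftRight (letTr.get l) (Nat.mul 3 i)) 7 := fun _ _ => rfl
end Cfsg.Agent.Helper96.L34.CertX
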