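import Cfsg.Agent.Helper96.L34.CertX.Data
set_option autoImplicit false
set_option maxRecDepth 1000000
namespace Cfsg.Agent.Helper96.L34.CertX
open Cfsg.Agent.Helper28
def chunks0 : List Nat := [0xe00000600000b0000130004000040101]
theorem facts_ok0 : checkChunks tabs chunks0 0 1 = true := by decide +kernel
end Cfsg.Agent.Helper96.L34.CertX
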